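import Cfsg.Agent.H700.F43.Kap

/-!
# The action of `P₁'` on `Q/Z` (S2465, F₄(3), block E; helper334)

* `conj_QQ` : `QQ` is normalized by `PP`;
* `act` : the action on the coordinates `kap` is the action of `ff g` on `V14`.
-/

set_option autoImplicit false

namespace Cfsg.Agent.H334.F43

open Cfsg.Lie Cfsg.Agent.H700.F43
open Matrix

/-! ### conjugates of letters -/

/-- the conjugates `x_r x_b x_r⁻¹` which are not `x_b` -/
def tabW : List (ℕ × ℕ × List ℕ) := [
  (33, 29, [29, 36, 36]), (33, 31, [31, 38, 38, 42, 42]), (33, 32, [32, 39, 39, 43, 43]), (33, 38, [38, 42, 42]),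
  (33, 39, [39, 43, 43]), (33, 40, [40, 44]), (27, 26, [26, 29, 29, 31, 31]), (27, 29, [29, 31, 31]),
  (27, 36, [36, 38]), (27, 39, [39, 40]), (27, 43, [43, 44, 45]), (27, 44, [44, 45, 45]),
  (25, 24, [24, 26, 26]), (25, 31, [31, 32]), (25, 38, [38, 39, 46, 46, 24, 46, 24, 24]), (25, 42, [42, 43]),
  (25, 45, [45, 46]), (14, 36, [36, 29, 29]), (14, 38, [38, 31]), (14, 39, [39, 32]),
  (14, 42, [42, 38, 31, 31]), (14, 43, [43, 39, 32, 32]), (14, 44, [44, 40]), (20, 29, [29, 26]),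
  (20, 31, [31, 29, 26, 26]), (20, 38, [38, 36]), (20, 40, [40, 39]), (20, 44, [44, 43, 43]),
  (20, 45, [45, 44, 43]), (22, 26, [26, 24, 24]), (22, 32, [32, 31]), (22, 39, [39, 38, 46, 46, 24, 24, 46, 24]),
  (22, 43, [43, 42]), (22, 46, [46, 45])]

/-- the conjugate of a letter -/
def cw (r b : ℕ) : List ℕ := ((tabW.find? fun e => Nat.beq e.1 r && Nat.beq e.2.1 b).map fun e => e.2.2).getD [b]

/-- the positive letters -/
def ps (w : List ℕ) : List (ℕ × Bool) := w.map fun r => (r, true)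

theorem cw_ok : (rC.all fun r => rQ.all fun b => chkE (ps [r, b]) (ps (cw r b ++ [r]))) = true := by decide +kernel

theorem cw_mem : ∀ r ∈ rC, ∀ b ∈ rQ, ∀ l ∈ cw r b, l ∈ rQ := by decide +kernel

theorem conj_letter {r b : ℕ} (hr : r ∈ rC) (hb : b ∈ rQ) : xp r * xp b * (xp r)⁻¹ = wp (cw r b) := by
  have h := word_eq (List.all_eq_true.1 (List.all_eq_true.1 cw_ok r hr) b hb)
  have e1 : wd (ps [r, b]) = xp r * xp b := by
    change wp [r, b] = _
    rw [wp_cons, wp_cons, wp_nil, mul_one]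
  have e2 : wd (ps (cw r b ++ [r])) = wp (cw r b) * xp r := by
    change wp (cw r b ++ [r]) = _
    rw [wp_append, wp_cons, wp_nil, mul_one]
  rw [e1, e2] at h
  rw [h, mul_inv_cancel_right]

theorem conj_mul' (r a b : Gm) : r * (a * b) * r⁻¹ = r * a * r⁻¹ * (r * b * r⁻¹) := by group

theorem conj_mem {r : ℕ} (hr : r ∈ rC) {v : Gm} (hv : v ∈ QQ) : xp r * v * (xp r)⁻¹ ∈ QQ := by
  refine word_ind (P := fun v => xp r * v * (xp r)⁻¹ ∈ QQ) rQ_lt ?_ ?_ hv
  · rw [mul_one, mul_inv_cancel]; exact one_mem _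
  · intro b hb g _ ih
    rw [conj_mul', conj_letter hr hb]
    exact mul_mem (wp_mem (cw_mem r hr b hb)) ih

theorem mem_QQ {r : ℕ} (hr : r ∈ rQ) : xp r ∈ QQ := xp_mem hr

/-- **`QQ` is normalized by `PP`** -/
theorem conj_QQ {g v : Gm} (hg : g ∈ PP) (hv : v ∈ QQ) : g * v * g⁻¹ ∈ QQ := by
  refine word_ind (P := fun g => ∀ v ∈ QQ, g * v * g⁻¹ ∈ QQ) all_lt ?_ ?_ hg v hv
  · intro v hv
    rwa [one_mul, inv_one, mul_one]
  · intro r hr g _ ih v hv
    have e : xp r * g * v * (xp r * g)⁻¹ = xp r * (g * v * g⁻¹) * (xp r)⁻¹ := by group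
    rw [e]
    rcases List.mem_append.1 hr with h | h
    · exact mul_mem (mul_mem (mem_QQ h) (ih v hv)) (inv_mem (mem_QQ h))
    · exact conj_mem h (ih v hv)

/-! ### sparse linear maps -/

/-- `1 +` a sparse matrix -/
def spF {ι : Type} [DecidableEq ι] (L : List (ι × ι × F3)) (x : ι → F3) : ι → F3 := fun a =>
  x a + (L.map fun e => if e.1 = a then e.2.2 * x e.2.1 else 0).sum

theorem spF_add {ι : Type} [DecidableEq ι] (L : List (ι × ι × F3)) (x y : ι → F3) :
    spF L (x + y) = spF L x + spF L y := by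
  funext a
  change (x a + y a) + (L.map fun e => if e.1 = a then e.2.2 * (x e.2.1 + y e.2.1) else 0).sum =
    (x a + (L.map fun e => if e.1 = a then e.2.2 * x e.2.1 else 0).sum) +
      (y a + (L.map fun e => if e.1 = a then e.2.2 * y e.2.1 else 0).sum)
  have h : (L.map fun e => if e.1 = a then e.2.2 * (x e.2.1 + y e.2.1) else 0).sum =
      (L.map fun e => if e.1 = a then e.2.2 * x e.2.1 else 0).sum +
        (L.map fun e => if e.1 = a then e.2.2 * y e.2.1 else 0).sum := by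
    induction L with
    | nil => simp
    | cons e L ih =>
      simp only [List.map_cons, List.sum_cons, ih]
      split_ifs <;> ring
  rw [h]; ring

theorem spF_smul {ι : Type} [DecidableEq ι] (L : List (ι × ι × F3)) (c : F3) (x : ι → F3) :
    spF L (c • x) = c • spF L x := by
  funext a
  change c * x a + (L.map fun e => if e.1 = a then e.2.2 * (c * x e.2.1) else 0).sum =
    c * (x a + (L.map fun e => if e.1 = a then e.2.2 * x e.2.1 else 0).sum)
  have h : (L.map fun e => if e.1 = a then e.2.2 * (c * x e.2.1) else 0).sum =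
      c * (L.map fun e => if e.1 = a then e.2.2 * x e.2.1 else 0).sum := by
    induction L with
    | nil => simp
    | cons e L ih =>
      simp only [List.map_cons, List.sum_cons, ih, mul_add]
      split_ifs <;> ring
  rw [h]; ring

/-- the linear map -/
def spL {ι : Type} [DecidableEq ι] (L : List (ι × ι × F3)) : (ι → F3) →ₗ[F3] (ι → F3) where
  toFun := spF L
  map_add' := spF_add L
  map_smul' := spF_smul L

/-- unit vectors -/
def bs {ι : Type} [DecidableEq ι] (i : ι) : ι → F3 := fun a => if a = i then 1 else 0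

theorem bs_eq {ι : Type} [DecidableEq ι] (i : ι) : Pi.single i 1 = (bs i : ι → F3) := by
  funext a
  rw [Pi.single_apply, bs]

/-- two linear maps -/
theorem ext_bs {ι : Type} [DecidableEq ι] [Fintype ι] {M : Type} [AddCommGroup M] [Module F3 M] {f g : (ι → F3) →ₗ[F3] M}
    (h : ∀ i, f (bs i) = g (bs i)) : f = g := by
  refine (Pi.basisFun F3 ι).ext fun i => ?_
  rw [Pi.basisFun_apply, bs_eq]
  exact h i

/-! ### the trilinear map -/

theorem ww_add1 (x x' y z : V6) : ww (x + x') y z = ww x y z + ww x' y z := by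
  funext k
  fin_cases k <;> simp only [ww, d3, cX, cY, Pi.add_apply] <;> simp <;> ring

theorem ww_add2 (x y y' z : V6) : ww x (y + y') z = ww x y z + ww x y' z := by
  funext k
  fin_cases k <;> simp only [ww, d3, cX, cY, Pi.add_apply] <;> simp <;> ring

theorem ww_add3 (x y z z' : V6) : ww x y (z + z') = ww x y z + ww x y z' := by
  funext k
  fin_cases k <;> simp only [ww, d3, cX, cY, Pi.add_apply] <;> simp <;> ring

theorem ww_smul1 (c : F3) (x y z : V6) : ww (c • x) y z = c • ww x y z := by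
  funext k
  fin_cases k <;> simp only [ww, d3, cX, cY, Pi.smul_apply, smul_eq_mul] <;> simp <;> ring

theorem ww_smul2 (c : F3) (x y z : V6) : ww x (c • y) z = c • ww x y z := by
  funext k
  fin_cases k <;> simp only [ww, d3, cX, cY, Pi.smul_apply, smul_eq_mul] <;> simp <;> ring

theorem ww_smul3 (c : F3) (x y z : V6) : ww x y (c • z) = c • ww x y z := by
  funext k
  fin_cases k <;> simp only [ww, d3, cX, cY, Pi.smul_apply, smul_eq_mul] <;> simp <;> ring

/-- linear in the first variable -/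
def w1 (y z : V6) : V6 →ₗ[F3] V14 where
  toFun x := ww x y z
  map_add' x x' := ww_add1 x x' y z
  map_smul' c x := ww_smul1 c x y z

/-- linear in the second variable -/
def w2 (x z : V6) : V6 →ₗ[F3] V14 where
  toFun y := ww x y z
  map_add' y y' := ww_add2 x y y' z
  map_smul' c y := ww_smul2 c x y z

/-- linear in the third variable -/
def w3 (x y : V6) : V6 →ₗ[F3] V14 where
  toFun z := ww x y z
  map_add' z z' := ww_add3 x y z z'
  map_smul' c z := ww_smul3 c x y z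

theorem rel_of {A : V6 →ₗ[F3] V6} {X : V14 →ₗ[F3] V14}
    (h : ∀ i j k, X (ww (bs i) (bs j) (bs k)) = ww (A (bs i)) (A (bs j)) (A (bs k))) (x y z : V6) :
    X (ww x y z) = ww (A x) (A y) (A z) := by
  have h3 : ∀ i j, ∀ z : V6, X (ww (bs i) (bs j) z) = ww (A (bs i)) (A (bs j)) (A z) := by
    intro i j z
    have : X.comp (w3 (bs i) (bs j)) = (w3 (A (bs i)) (A (bs j))).comp A := ext_bs fun k => h i j k
    exact LinearMap.congr_fun this z
  have h2 : ∀ i, ∀ y z : V6, X (ww (bs i) y z) = ww (A (bs i)) (A y) (A z) := by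
    intro i y z
    have : X.comp (w2 (bs i) z) = (w2 (A (bs i)) (A z)).comp A := ext_bs fun j => h3 i j z
    exact LinearMap.congr_fun this y
  have : X.comp (w1 y z) = (w1 (A y) (A z)).comp A := ext_bs fun i => h2 i y z
  exact LinearMap.congr_fun this x

/-! ### the data -/

/-- the action of `x_r(1)` on `V14` -/
def XS : ℕ → List (Fin 14 × Fin 14 × F3)
  | 33 => [(1, 2, 1), (6, 2, 1), (5, 4, 1), (1, 6, 2), (8, 7, 1), (12, 7, 2), (10, 11, 2), (8, 12, 1)]
  | 27 => [(2, 3, 1), (4, 3, 1), (2, 4, 2), (6, 5, 1), (9, 8, 1), (10, 8, 2), (9, 10, 1), (11, 12, 2)]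
  | 25 => [(3, 0, 1), (8, 1, 1), (7, 2, 1), (12, 6, 2), (13, 9, 1)]
  | 14 => [(2, 1, 1), (6, 1, 1), (4, 5, 1), (2, 6, 2), (7, 8, 1), (12, 8, 2), (11, 10, 2), (7, 12, 1)]
  | 20 => [(3, 2, 1), (4, 2, 1), (3, 4, 2), (5, 6, 1), (8, 9, 1), (10, 9, 2), (8, 10, 1), (12, 11, 2)]
  | 22 => [(0, 3, 1), (2, 7, 1), (1, 8, 1), (6, 12, 2), (9, 13, 1)]
  | _ => []

/-- the action of `x_r(1)` on `V6` -/
def AS : ℕ → List ((Fin 3 ⊕ Fin 3) × (Fin 3 ⊕ Fin 3) × F3)
  | 33 => [(Sum.inl 0, Sum.inl 1, 1), (Sum.inr 1, Sum.inr 0, 2)]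
  | 27 => [(Sum.inl 1, Sum.inl 2, 1), (Sum.inr 2, Sum.inr 1, 2)]
  | 14 => [(Sum.inl 1, Sum.inl 0, 1), (Sum.inr 0, Sum.inr 1, 2)]
  | 20 => [(Sum.inl 2, Sum.inl 1, 1), (Sum.inr 1, Sum.inr 2, 2)]
  | 25 => [(Sum.inl 2, Sum.inr 2, 1)]
  | 22 => [(Sum.inr 2, Sum.inl 2, 1)]
  | _ => []

/-- the test for the relation -/
def chkRel (r : ℕ) : Prop := ∀ i j k : Fin 3 ⊕ Fin 3, ∀ m : Fin 14,
  spF (XS r) (ww (bs i) (bs j) (bs k)) m = ww (spF (AS r) (bs i)) (spF (AS r) (bs j)) (spF (AS r) (bs k)) m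

instance (r : ℕ) : Decidable (chkRel r) := by unfold chkRel; infer_instance

theorem rel33 : chkRel 33 := by decide +kernel
theorem rel27 : chkRel 27 := by decide +kernel
theorem rel25 : chkRel 25 := by decide +kernel
theorem rel14 : chkRel 14 := by decide +kernel
theorem rel20 : chkRel 20 := by decide +kernel
theorem rel22 : chkRel 22 := by decide +kernel

theorem rel_all {r : ℕ} (hr : r ∈ rC) : chkRel r := by
  simp only [rC, List.mem_cons, List.not_mem_nil, or_false] at hr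
  rcases hr with rfl | rfl | rfl | rfl | rfl | rfl
  · exact rel33
  · exact rel27
  · exact rel25
  · exact rel14
  · exact rel20
  · exact rel22

theorem chk_fm : ∀ r ∈ rC, ∀ i j : Fin 3 ⊕ Fin 3, tb r i j = spF (AS r) (bs j) i := by decide +kernel

/-- the matrix of a letter on `V6` -/
theorem fm_spL {r : ℕ} (hr : r ∈ rC) (x : V6) : (fm (xp r)).mulVec x = spL (AS r) x := by
  have h : Matrix.mulVecLin (fm (xp r)) = spL (AS r) := by
    refine ext_bs fun j => ?_
    funext i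
    change (fm (xp r)).mulVec (bs j) i = spF (AS r) (bs j) i
    rw [← bs_eq, Matrix.mulVec_single_one, bs_eq, ← chk_fm r hr i j]
    exact fm_xp (rC_lt r hr) i j
  exact LinearMap.congr_fun h x

theorem spL_apply' {ι : Type} [DecidableEq ι] [Fintype ι] (L : List (ι × ι × F3)) (x : ι → F3) : spL L x = spF L x := rfl

theorem rel_fun {r : ℕ} (hr : r ∈ rC) (i j k : Fin 3 ⊕ Fin 3) :
    spF (XS r) (ww (bs i) (bs j) (bs k)) = ww (spF (AS r) (bs i)) (spF (AS r) (bs j)) (spF (AS r) (bs k)) := by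
  have h := rel_all hr
  unfold chkRel at h
  exact funext (h i j k)

theorem rel_xp {r : ℕ} (hr : r ∈ rC) (hP : xp r ∈ PP) : Rel (ff ⟨xp r, hP⟩) (spL (XS r)) := by
  intro x y z
  have h0 : ∀ i j k : Fin 3 ⊕ Fin 3, spL (XS r) (ww (bs i) (bs j) (bs k)) =
      ww (spL (AS r) (bs i)) (spL (AS r) (bs j)) (spL (AS r) (bs k)) := by
    intro i j k
    rw [spL_apply', spL_apply', spL_apply', spL_apply']
    exact rel_fun hr i j k
  have h := rel_of h0 x y z
  rw [h, ff_val]
  change _ = ww ((fm (xp r)).mulVec x) ((fm (xp r)).mulVec y) ((fm (xp r)).mulVec z)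
  rw [fm_spL hr, fm_spL hr, fm_spL hr]

/-! ### coordinates -/

/-- the coordinates of a word -/
def kv (w : List ℕ) : V14 := fun k => (w.map fun l => if l = ord14 k then eta k else 0).sum

theorem exists_ord : ∀ l ∈ rQ, ∃ j, l = ord14 j := by decide

theorem ord_inj : ∀ j k, ord14 j = ord14 k → j = k := by decide

theorem kap_wp {w : List ℕ} (hw : ∀ l ∈ w, l ∈ rQ) : kap (wp w) = kv w := by
  induction w with
  | nil => exact kap_one
  | cons l w ih =>
    have hw' : ∀ s ∈ w, s ∈ rQ := fun s hs => hw s (List.mem_cons_of_mem _ hs)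
    have hl := hw l List.mem_cons_self
    obtain ⟨j, rfl⟩ := exists_ord l hl
    rw [wp_cons, kap_mul (mem_QQ hl) (wp_mem hw'), ih hw', kap_xp]
    funext k
    rw [Pi.add_apply, Pi.single_apply]
    change _ = (List.map (fun l => if l = ord14 k then eta k else 0) (ord14 j :: w)).sum
    rw [List.map_cons, List.sum_cons]
    by_cases h : k = j
    · subst h
      rw [if_pos rfl, if_pos rfl]
      rfl
    · rw [if_neg h, if_neg (fun e => h (ord_inj _ _ e).symm)]
      rfl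

/-- a unit vector with a sign -/
def be (j : Fin 14) : V14 := fun k => if k = j then eta j else 0

theorem kap_xp' (j : Fin 14) : kap (xp (ord14 j)) = be j := by
  rw [kap_xp]
  funext k
  rw [Pi.single_apply, be]

theorem chk_cw : ∀ r ∈ rC, ∀ j k : Fin 14, kv (cw r (ord14 j)) k = spF (XS r) (be j) k := by decide +kernel

theorem kap_conj {r : ℕ} (hr : r ∈ rC) {v : Gm} (hv : v ∈ QQ) : kap (xp r * v * (xp r)⁻¹) = spL (XS r) (kap v) := by
  refine word_ind (P := fun v => kap (xp r * v * (xp r)⁻¹) = spL (XS r) (kap v)) rQ_lt ?_ ?_ hv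
  · rw [mul_one, mul_inv_cancel, kap_one, map_zero]
  · intro b hb g hg ih
    obtain ⟨j, rfl⟩ := exists_ord b hb
    rw [conj_mul', kap_mul (conj_mem hr (mem_QQ hb)) (conj_mem hr hg), ih, kap_mul (mem_QQ hb) hg, map_add,
      conj_letter hr hb, kap_wp (cw_mem r hr _ hb), kap_xp' j]
    congr 1
    funext k
    exact chk_cw r hr j k

theorem kap_inv {v : Gm} (hv : v ∈ QQ) : kap v⁻¹ = -kap v := by
  have h := kap_mul hv (inv_mem hv)
  rw [mul_inv_cancel, kap_one] at h
  exact (neg_eq_of_add_eq_zero_right h.symm).symm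

theorem kap_conj_QQ {u v : Gm} (hu : u ∈ QQ) (hv : v ∈ QQ) : kap (u * v * u⁻¹) = kap v := by
  rw [kap_mul (mul_mem hu hv) (inv_mem hu), kap_mul hu hv, kap_inv hu]
  abel

theorem ff_mk_mul {a b : Gm} (ha : a ∈ PP) (hb : b ∈ PP) (hab : a * b ∈ PP) :
    ff ⟨a * b, hab⟩ = ff ⟨a, ha⟩ * ff ⟨b, hb⟩ := by
  have e0 : (⟨a * b, hab⟩ : ↥PP) = ⟨a, ha⟩ * ⟨b, hb⟩ := Subtype.ext (Subgroup.coe_mul PP ⟨a, ha⟩ ⟨b, hb⟩).symm
  rw [e0, map_mul]

theorem ff_mk_one (h : (1 : Gm) ∈ PP) : ff ⟨1, h⟩ = 1 := by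
  have e0 : (⟨1, h⟩ : ↥PP) = 1 := Subtype.ext (Subgroup.coe_one PP).symm
  rw [e0, map_one]

/-- **the action** -/
theorem act (g : ↥PP) : ∃ X : V14 →ₗ[F3] V14, (∀ v ∈ QQ, kap ((g : Gm) * v * (g : Gm)⁻¹) = X (kap v)) ∧ Rel (ff g) X := by
  obtain ⟨g, hg⟩ := g
  refine word_ind (P := fun g => ∀ hg : g ∈ PP, ∃ X : V14 →ₗ[F3] V14, (∀ v ∈ QQ, kap (g * v * g⁻¹) = X (kap v)) ∧
    Rel (ff ⟨g, hg⟩) X) all_lt ?_ ?_ hg hg
  · intro h1
    refine ⟨1, fun v _ => ?_, ?_⟩
    · rw [one_mul, inv_one, mul_one]; rfl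
    · have e : ff ⟨1, h1⟩ = 1 := ff_mk_one h1
      rw [e]
      exact Rel.one
  · intro r hr g hg ih hrg
    obtain ⟨X, hX, hR⟩ := ih hg
    have hrP : xp r ∈ PP := xp_mem hr
    have e := ff_mk_mul hrP hg hrg
    have e' : ∀ v : Gm, xp r * g * v * (xp r * g)⁻¹ = xp r * (g * v * g⁻¹) * (xp r)⁻¹ := fun v => by group
    rw [e]
    rcases List.mem_append.1 hr with h | h
    · refine ⟨X, fun v hv => ?_, ?_⟩
      · rw [e', kap_conj_QQ (mem_QQ h) (conj_QQ hg hv), hX v hv]
      · have e2 : ff ⟨xp r, hrP⟩ = 1 := Subtype.ext ((ff_val _).trans (fm_QQ (mem_QQ h)))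
        rw [e2, one_mul]
        exact hR
    · refine ⟨spL (XS r) * X, fun v hv => ?_, (rel_xp h hrP).mul hR⟩
      rw [e', kap_conj h (conj_QQ hg hv), hX v hv]
      rfl

end Cfsg.Agent.H334.F43
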